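import Cfsg.Agent.Lib.ThreeLocalChars.Basics
import Cfsg.Agent.Lib.Coprime.Action2

/-!
# A strongly 3-embedded `3³ : 2²` is the whole group

Let `H ≅ 3³ : 2²` be the normalizer of its subgroup `T` of order 27 and contain the centralizers of
the nontrivial elements of `T`.  Column orthogonality at the elements of order six shows that the
three involution classes of `H` do not fuse.  For each coordinate the induced virtual character
`1 + l - φ` then yields two irreducible characters having the involution in the kernel, and the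
intersection of the three kernels is trivial.
-/

set_option autoImplicit false
set_option linter.style.haveILetI false

namespace CfsgLib.ThreeLocalChars

open Cfsg
open scoped ComplexConjugate

universe u

theorem thirdIdx_left (i j : Fin 3) : i ≠ j → thirdIdx (thirdIdx i j) i = j := by
  revert i j; decide

variable {G : Type u} [Group G] {H : Subgroup G}

/-- The standing hypotheses. -/
structure Embedded (c : FourOnCube H) : Prop where
  norm : ∀ g : G, (∀ v, ∃ w, g * c.E v * g⁻¹ = c.E w) → g ∈ H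
  cent : ∀ v g, v ≠ 0 → g * c.E v = c.E v * g → g ∈ H

namespace FourOnCube

variable (c : FourOnCube H)

theorem E_pow_three (v : Vec3) : c.E v ^ 3 = 1 := by
  rw [pow_succ, pow_two, ← c.E_add, ← c.E_add, ← c.E_zero]
  congr 1
  funext j
  have : ∀ a : ZMod 3, a + a + a = 0 := by decide
  exact this _

/-- An element of `H` with trivial cube lies in the normal subgroup `3³`. -/
theorem eq_E_of_pow_three {x : G} (hx : x ∈ H) (h3 : x ^ 3 = 1) : ∃ w, x = c.E w := by
  obtain ⟨w, rfl | ⟨i, rfl⟩⟩ := c.exhaust x hx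
  · exact ⟨w, rfl⟩
  · exfalso
    rw [pow_succ, pow_two, c.EU_mul_EU, ← mul_assoc, ← c.E_add] at h3
    exact c.EU_ne_E _ _ _ (h3.trans c.E_zero.symm)

theorem ti (he : Embedded c) {g : G} {v w : Vec3} (hv : v ≠ 0)
    (h : g * c.E v * g⁻¹ = c.E w) : g ∈ H := by
  have hw : w ≠ 0 := by
    rintro rfl
    rw [c.E_zero, mul_inv_eq_one, mul_eq_left] at h
    exact c.E_ne_one hv h
  refine he.norm g fun u => ?_
  have hcomm : g * c.E u * g⁻¹ * c.E w = c.E w * (g * c.E u * g⁻¹) := by
    rw [← h]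
    simp only [mul_assoc, inv_mul_cancel_left]
    rw [← mul_assoc (c.E u), c.E_comm u v, mul_assoc]
  refine c.eq_E_of_pow_three (he.cent w _ hw hcomm) ?_
  rw [conj_pow, c.E_pow_three, mul_one, mul_inv_cancel]

theorem single_ne_zero (i : Fin 3) : (Pi.single i 1 : Vec3) ≠ 0 := fun h =>
  one_ne_zero (α := ZMod 3) (by simpa using congrFun h i)

theorem not_isConj_d (he : Embedded c) {i j : Fin 3} (hij : i ≠ j) :
    ¬ IsConj (c.d i) (c.d j) := by
  intro h
  obtain ⟨g, hg⟩ := isConj_iff.mp h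
  have h4 : g * c.E (Pi.single i 1) * g⁻¹ = c.E (Pi.single j 1) := by
    rw [← c.d_pow_four, ← c.d_pow_four, ← hg, conj_pow]
  have hgH := c.ti he (single_ne_zero i) h4
  obtain ⟨w, hw, hw'⟩ := c.conj_E hgH (Pi.single i 1)
  have hwj : Pi.single j (1 : ZMod 3) = w := c.E_inj (h4.symm.trans hw)
  have h5 := hw' j
  rw [← hwj, Pi.single_eq_same, Pi.single_eq_of_ne (Ne.symm hij)] at h5
  simp at h5

theorem card_centralizer_d (he : Embedded c) (i : Fin 3) :
    Nat.card (Subgroup.centralizer ({c.d i} : Set G)) = 6 := by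
  have hmem : ∀ x, x ∈ Subgroup.centralizer ({c.d i} : Set G) ↔
      ∃ a : ZMod 3, x = c.E (Pi.single i a) ∨ x = c.E (Pi.single i a) * c.U i := by
    intro x
    rw [Subgroup.mem_centralizer_singleton_iff]
    constructor
    · intro hx
      have hx4 : x * c.E (Pi.single i 1) = c.E (Pi.single i 1) * x := by
        rw [← c.d_pow_four]
        exact ((show Commute x (c.d i) from hx).pow_right 4).eq
      have hxU : x * c.U i = c.U i * x := by
        rw [← c.d_pow_three]
        exact ((show Commute x (c.d i) from hx).pow_right 3).eq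
      have hxH := he.cent _ x (single_ne_zero i) hx4
      have key : ∀ v, c.E v * c.U i = c.U i * c.E v → v = Pi.single i (v i) := by
        intro v hv
        rw [c.UE] at hv
        have h6 := c.E_inj (mul_right_cancel hv)
        funext j
        by_cases hji : j = i
        · subst hji; simp
        · rw [Pi.single_eq_of_ne hji]
          have h7 := congrFun h6 j
          rw [flipOff_other (Ne.symm hji)] at h7
          by_contra h0
          exact neg_ne_self_of_ne_zero _ h0 h7.symm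
      obtain ⟨v, rfl | ⟨k, rfl⟩⟩ := c.exhaust x hxH
      · exact ⟨v i, Or.inl (congrArg c.E (key v hxU))⟩
      · have hk : k = i := by
          by_contra hki
          rw [c.EU_mul_E, ← mul_assoc, ← c.E_add] at hx4
          have h6 := congrFun (c.EU_inj hx4).2 i
          simp only [Pi.add_apply, flipOff_other hki, Pi.single_eq_same] at h6
          have : ∀ a : ZMod 3, a + -1 ≠ 1 + a := by decide
          exact this _ h6
        subst hk
        refine ⟨v k, Or.inr ?_⟩
        have h7 : c.E v * c.U k = c.U k * c.E v := by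
          have h8 := hxU
          rw [mul_assoc, c.U_sq, mul_one, ← mul_assoc] at h8
          conv_rhs => rw [h8]
          rw [← mul_assoc, ← mul_assoc, c.U_sq, one_mul]
        exact congrArg (fun w => c.E w * c.U k) (key v h7)
    · have hEU : ∀ a : ZMod 3, Commute (c.E (Pi.single i a)) (c.U i) := by
        intro a
        show c.E _ * c.U i = c.U i * c.E _
        rw [c.UE]
        congr 2
        funext j
        by_cases hij : i = j
        · subst hij; simp [flipOff]
        · simp [flipOff, hij]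
      rintro ⟨a, rfl | rfl⟩
      · exact (Commute.mul_right (c.E_comm _ _) (hEU a)).eq
      · exact ((Commute.mul_right (c.E_comm _ _) (hEU a)).mul_left
          (Commute.mul_right (hEU 1).symm (Commute.refl _))).eq
  let f : ZMod 3 × Bool → Subgroup.centralizer ({c.d i} : Set G) := fun p =>
    if p.2 then ⟨c.E (Pi.single i p.1) * c.U i, (hmem _).mpr ⟨p.1, Or.inr rfl⟩⟩
    else ⟨c.E (Pi.single i p.1), (hmem _).mpr ⟨p.1, Or.inl rfl⟩⟩
  have hf : Function.Bijective f := by
    constructor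
    · rintro ⟨a, _ | _⟩ ⟨b, _ | _⟩ e <;> simp [f] at e
      · rw [Pi.single_injective i (c.E_inj e)]
      · exact absurd e.symm (c.EU_ne_E _ _ _)
      · exact absurd e (c.EU_ne_E _ _ _)
      · rw [Pi.single_injective i (c.E_inj e)]
    · rintro ⟨x, hx⟩
      obtain ⟨a, rfl | rfl⟩ := (hmem x).mp hx
      · exact ⟨(a, false), by simp [f]⟩
      · exact ⟨(a, true), by simp [f]⟩
  rw [← Nat.card_congr (Equiv.ofBijective f hf)]
  simp [Nat.card_eq_fintype_card, ZMod.card]

/-- The three involution classes of `H` do not fuse. -/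
theorem not_isConj_U [Finite G] (he : Embedded c) {i j : Fin 3} (hij : i ≠ j) :
    ¬ IsConj (c.U i) (c.U j) := by
  rw [← c.d_pow_three, ← c.d_pow_three]
  exact not_isConj_cubes (c.d_pow_six i) (c.d_pow_six j) (c.d_real (Ne.symm hij)) (c.d_real hij)
    (c.not_isConj_d he hij)
    (by rw [c.card_centralizer_d he, c.card_centralizer_d he]; norm_num)

/-- The support of `1 + l_i - φ_i` on `H`. -/
def InS (i : Fin 3) (x : G) : Prop := ∃ v : Vec3, v i ≠ 0 ∧ (x = c.E v ∨ x = c.E v * c.U i)

theorem InS.mem {i : Fin 3} {x : G} (h : c.InS i x) : x ∈ H := by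
  obtain ⟨v, -, rfl | rfl⟩ := h
  · exact c.E_mem v
  · exact mul_mem (c.E_mem v) (c.U_mem i)

theorem InS.pow_four {i : Fin 3} {x : G} (h : c.InS i x) : ∃ w, w ≠ 0 ∧ x ^ 4 = c.E w := by
  obtain ⟨v, hv, rfl | rfl⟩ := h
  · refine ⟨v, fun e => hv (by rw [e]; rfl), ?_⟩
    rw [pow_succ, c.E_pow_three, one_mul]
  · refine ⟨v + flipOff i v + (v + flipOff i v), fun e => hv ?_, ?_⟩
    · have h1 := congrFun e i
      simp only [Pi.add_apply, flipOff_same, Pi.zero_apply] at h1
      have : ∀ a : ZMod 3, a + a + (a + a) = 0 → a = 0 := by decide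
      exact this _ h1
    · rw [show 4 = 2 + 2 from rfl, pow_add, pow_two, c.EU_mul_EU, ← c.E_add]

theorem InS.conj {i : Fin 3} {x h : G} (hh : h ∈ H) (hx : c.InS i x) :
    c.InS i (h * x * h⁻¹) := by
  obtain ⟨v, hv, hx⟩ := hx
  obtain ⟨w, hw, hw'⟩ := c.conj_E hh v
  have hwi : w i ≠ 0 := by
    rcases hw' i with e | e <;> rw [e] <;> simpa using hv
  rcases hx with rfl | rfl
  · exact ⟨w, hwi, Or.inl hw⟩
  · have hU : ∃ u, h * c.U i * h⁻¹ = c.E u * c.U i ∧ u i = 0 := by
      obtain ⟨z, rfl | ⟨k, rfl⟩⟩ := c.exhaust h hh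
      · refine ⟨z + flipOff i (-z), ?_, by simp [flipOff]⟩
        rw [← c.E_neg, c.EU_mul_E]
      · have hk : c.U k * c.U i * c.U k = c.U i := by
          by_cases hki : k = i
          · subst hki; rw [c.U_sq, one_mul]
          · have h1 := thirdIdx_ne k i hki
            rw [c.U_mul k i hki, c.U_mul _ k h1.1]
            rw [thirdIdx_left k i hki]
        refine ⟨z + flipOff i (-z), ?_, by simp [flipOff]⟩
        rw [mul_inv_rev, c.U_inv, mul_assoc, mul_assoc, ← mul_assoc (c.U i) (c.U k),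
          ← mul_assoc (c.U k), ← mul_assoc (c.U k), hk, ← c.E_neg, ← mul_assoc, c.EU_mul_E]
    obtain ⟨u, hu, hui⟩ := hU
    refine ⟨w + u, by simpa [hui] using hwi, Or.inr ?_⟩
    rw [c.E_add, ← hw, mul_assoc (h * c.E v * h⁻¹), ← hu]
    group

theorem InS.mem_of_conj (he : Embedded c) {i : Fin 3} {x g : G} (hx : c.InS i x)
    (hg : c.InS i (g * x * g⁻¹)) : g ∈ H := by
  obtain ⟨w, hw, hx4⟩ := hx.pow_four
  obtain ⟨w', -, hg4⟩ := hg.pow_four
  rw [conj_pow, hx4] at hg4
  exact c.ti he hw hg4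

theorem InS.ne_of_sq {i : Fin 3} {x : G} (hx : x ^ 2 = 1) (g : G) :
    ¬ c.InS i (g * x * g⁻¹) := by
  intro h
  obtain ⟨w, hw, h4⟩ := h.pow_four
  rw [conj_pow, show 4 = 2 * 2 from rfl, pow_mul, hx, one_pow, mul_one, mul_inv_cancel] at h4
  exact c.E_ne_one hw h4.symm

/-- The subgroup `3³⟨u_i⟩`. -/
def half (i : Fin 3) : Subgroup G where
  carrier := {x | ∃ v, x = c.E v ∨ x = c.E v * c.U i}
  one_mem' := ⟨0, Or.inl c.E_zero.symm⟩
  mul_mem' := by
    rintro x y ⟨v, rfl | rfl⟩ ⟨w, rfl | rfl⟩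
    · exact ⟨v + w, Or.inl (c.E_add _ _).symm⟩
    · exact ⟨v + w, Or.inr (by rw [c.E_add, mul_assoc])⟩
    · exact ⟨_, Or.inr (c.EU_mul_E _ _ _)⟩
    · exact ⟨_, Or.inl (c.EU_mul_EU _ _ _)⟩
  inv_mem' := by
    rintro x ⟨v, rfl | rfl⟩
    · exact ⟨-v, Or.inl (c.E_neg v).symm⟩
    · refine ⟨flipOff i (-v), Or.inr ?_⟩
      rw [mul_inv_rev, c.U_inv, ← c.E_neg, c.UE]

/-- Parametrisation of `half i`. -/
def halfParam (i : Fin 3) : Vec3 × Bool → c.half i
  | (v, false) => ⟨c.E v, v, Or.inl rfl⟩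
  | (v, true) => ⟨c.E v * c.U i, v, Or.inr rfl⟩

theorem halfParam_bijective (i : Fin 3) : Function.Bijective (c.halfParam i) := by
  constructor
  · rintro ⟨v, _ | _⟩ ⟨w, _ | _⟩ e <;> replace e := congrArg (Subtype.val) e <;>
      simp only [halfParam] at e
    · rw [c.E_inj e]
    · exact absurd e.symm (c.EU_ne_E _ _ _)
    · exact absurd e (c.EU_ne_E _ _ _)
    · rw [c.E_inj (mul_right_cancel e)]
  · rintro ⟨x, v, rfl | rfl⟩
    · exact ⟨(v, false), rfl⟩
    · exact ⟨(v, true), rfl⟩

/-- The linear character of `half i` reading the `i`-th coordinate. -/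
theorem exists_coord_char (i : Fin 3) :
    ∃ l : c.half i →* ℂˣ, ∀ p : Vec3 × Bool, ((l (c.halfParam i p) : ℂˣ) : ℂ) = zpow3 (p.1 i) := by
  let e := Equiv.ofBijective _ (c.halfParam_bijective i)
  have hmul : ∀ p q : Vec3 × Bool, ∃ r : Vec3 × Bool,
      c.halfParam i p * c.halfParam i q = c.halfParam i r ∧ r.1 i = p.1 i + q.1 i := by
    rintro ⟨v, _ | _⟩ ⟨w, _ | _⟩
    · exact ⟨(v + w, false), Subtype.ext (c.E_add v w).symm, rfl⟩
    · exact ⟨(v + w, true), Subtype.ext (by
        show c.E v * (c.E w * c.U i) = c.E (v + w) * c.U i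
        rw [c.E_add, mul_assoc]), rfl⟩
    · exact ⟨(v + flipOff i w, true), Subtype.ext (c.EU_mul_E v w i),
        by simp [flipOff_same]⟩
    · exact ⟨(v + flipOff i w, false), Subtype.ext (c.EU_mul_EU v w i),
        by simp [flipOff_same]⟩
  let f : c.half i →* ℂ :=
    { toFun := fun x => zpow3 ((e.symm x).1 i)
      map_one' := by
        have : (1 : c.half i) = c.halfParam i (0, false) := Subtype.ext c.E_zero.symm
        rw [this, show c.halfParam i (0, false) = e (0, false) from rfl, Equiv.symm_apply_apply]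
        exact zpow3_zero
      map_mul' := fun x y => by
        obtain ⟨p, rfl⟩ := e.surjective x
        obtain ⟨q, rfl⟩ := e.surjective y
        obtain ⟨r, hr, hri⟩ := hmul p q
        rw [show e p * e q = e r from hr]
        simp only [Equiv.symm_apply_apply]
        rw [hri, zpow3_add] }
  refine ⟨f.toHomUnits, fun p => ?_⟩
  show zpow3 ((e.symm (e p)).1 i) = _
  rw [Equiv.symm_apply_apply]

variable [Fintype G]

open scoped Classical in
/-- The finite set of the elements of `InS i`. -/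
noncomputable def Sset (i : Fin 3) : Finset G := Finset.univ.filter (c.InS i)

theorem sum_Sset (i : Fin 3) {M : Type*} [AddCommMonoid M] (F : G → M) :
    ∑ s ∈ c.Sset i, F s =
      ∑ p : Vec3 × Bool, if p.1 i ≠ 0 then F (c.halfParam i p) else 0 := by
  classical
  rw [← Finset.sum_filter]
  symm
  refine Finset.sum_bij (fun p _ => (c.halfParam i p : G)) ?_ ?_ ?_ (fun _ _ => rfl)
  · rintro ⟨v, _ | _⟩ hp <;> simp only [Finset.mem_filter, Sset, Finset.mem_univ, true_and] at hp ⊢
    · exact ⟨v, hp, Or.inl rfl⟩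
    · exact ⟨v, hp, Or.inr rfl⟩
  · intro p _ q _ e
    exact (c.halfParam_bijective i).1 (Subtype.ext e)
  · intro s hs
    simp only [Sset, Finset.mem_filter, Finset.mem_univ, true_and] at hs
    obtain ⟨v, hv, rfl | rfl⟩ := hs
    · exact ⟨(v, false), by simpa using hv, rfl⟩
    · exact ⟨(v, true), by simpa using hv, rfl⟩

theorem card_Sset (i : Fin 3) : (c.Sset i).card = 36 := by
  rw [Finset.card_eq_sum_ones, c.sum_Sset]
  revert i
  decide

theorem sum_Sset_char (i : Fin 3) {χ : G → ℂ} (hχ : IsCharacter G χ) :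
    ∃ k : ℤ, ∑ s ∈ c.Sset i, χ s = 36 * (k : ℂ) := by
  classical
  haveI : Fintype (c.half i) := Fintype.ofFinite _
  obtain ⟨l, hl⟩ := c.exists_coord_char i
  obtain ⟨j, hj⟩ := exists_ne_idx i
  obtain ⟨a, ha⟩ := Chars.inner_char_nat (Chars.isCharacter_restrict (c.half i) hχ)
    (Chars.isCharacter_one (G := c.half i))
  obtain ⟨m, hm⟩ := Chars.inner_char_nat (Chars.isCharacter_restrict (c.half i) hχ)
    (Chars.isCharacter_of_irr (Chars.isIrrCharacter_linear l))
  have h54 : (Nat.card (c.half i) : ℂ) = 54 := by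
    rw [← Nat.card_congr (Equiv.ofBijective _ (c.halfParam_bijective i))]
    simp [Nat.card_eq_fintype_card, ZMod.card]
  rw [Chars.inner_def, h54, inv_mul_eq_iff_eq_mul₀ (by norm_num),
    ← (Equiv.ofBijective _ (c.halfParam_bijective i)).sum_comp] at ha hm
  simp only [Equiv.ofBijective_apply, map_one, mul_one, hl, conj_zpow3] at ha hm
  have hflip : ∑ p : Vec3 × Bool, χ (c.halfParam i p) * zpow3 (p.1 i) =
      ∑ p : Vec3 × Bool, χ (c.halfParam i p) * zpow3 (-(p.1 i)) := by
    refine Fintype.sum_equiv (Equiv.prodCongr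
      ⟨flipOff j, flipOff j, flipOff_flipOff j, flipOff_flipOff j⟩ (Equiv.refl Bool)) _ _ ?_
    rintro ⟨v, b⟩
    simp only [Equiv.prodCongr_apply, Equiv.coe_fn_mk, Prod.map_apply, Equiv.refl_apply]
    rw [flipOff_other hj, neg_neg]
    congr 1
    have hUj : c.U j * c.U i * c.U j = c.U i := by
      have h1 := thirdIdx_ne j i hj
      rw [c.U_mul j i hj, c.U_mul _ j h1.1]
      rw [thirdIdx_left j i hj]
    have hconj : (c.halfParam i (flipOff j v, b) : G) =
        c.U j * (c.halfParam i (v, b) : G) * (c.U j)⁻¹ := by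
      rw [c.U_inv]
      cases b
      · exact (c.U_conj j v).symm
      · show c.E (flipOff j v) * c.U i = c.U j * (c.E v * c.U i) * c.U j
        rw [← mul_assoc, c.UE, mul_assoc, mul_assoc, ← mul_assoc (c.U j) (c.U i), hUj]
    rw [hconj, Chars.isClassFunction_of_isCharacter hχ]
  refine ⟨(a : ℤ) - m, ?_⟩
  push_cast
  have hpt : ∀ p : Vec3 × Bool,
      3 * (if p.1 i ≠ 0 then χ (c.halfParam i p : G) else 0) =
        2 * χ (c.halfParam i p : G) - χ (c.halfParam i p : G) * zpow3 (p.1 i) -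
          χ (c.halfParam i p : G) * zpow3 (-(p.1 i)) := fun p => by
    have h := indicator_zpow3 (p.1 i)
    by_cases hp : p.1 i ≠ 0
    · rw [if_pos hp] at h ⊢
      linear_combination χ (c.halfParam i p : G) * h
    · rw [if_neg hp] at h ⊢
      linear_combination χ (c.halfParam i p : G) * h
  have h3 : 3 * ∑ s ∈ c.Sset i, χ s = 2 * (54 * (a : ℂ)) - 54 * m - 54 * m := by
    rw [c.sum_Sset, Finset.mul_sum, Finset.sum_congr rfl (fun p _ => hpt p),
      Finset.sum_sub_distrib, Finset.sum_sub_distrib, ← Finset.mul_sum, hflip, ha, hm]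
  linear_combination h3 / 3

open scoped Classical in
/-- The class function three times the indicator of the conjugates of `InS i`. -/
noncomputable def indF (i : Fin 3) (x : G) : ℂ :=
  if ∃ g, c.InS i (g * x * g⁻¹) then 3 else 0

theorem isClassFunction_indF (i : Fin 3) : IsClassFunction G (c.indF i) := by
  intro x h
  have : (∃ g, c.InS i (g * (h * x * h⁻¹) * g⁻¹)) ↔ ∃ g, c.InS i (g * x * g⁻¹) := by
    constructor
    · rintro ⟨g, hg⟩
      exact ⟨g * h, by simpa [mul_assoc] using hg⟩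
    · rintro ⟨g, hg⟩
      exact ⟨g * h⁻¹, by simpa [mul_assoc] using hg⟩
  classical
  simp only [indF, this]

/-- Summation over the conjugates of the trivial intersection set. -/
theorem sum_indF (he : Embedded c) (i : Fin 3) {F : G → ℂ} (hF : IsClassFunction G F) :
    108 * ∑ x : G, c.indF i x * F x = 3 * (Nat.card G : ℂ) * ∑ s ∈ c.Sset i, F s := by
  classical
  set X := Finset.univ.filter (fun x : G => ∃ g, c.InS i (g * x * g⁻¹)) with hX
  let π : G × G → G := fun p => p.1 * p.2 * p.1⁻¹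
  have h1 : ∑ x : G, c.indF i x * F x = 3 * ∑ x ∈ X, F x := by
    rw [Finset.mul_sum, hX, Finset.sum_filter]
    refine Finset.sum_congr rfl fun x _ => ?_
    unfold indF
    split_ifs <;> simp
  have hmap : ∀ p ∈ (Finset.univ : Finset G) ×ˢ c.Sset i, π p ∈ X := by
    intro p hp
    simp only [Finset.mem_product, Sset, Finset.mem_filter, Finset.mem_univ, true_and] at hp
    simp only [hX, Finset.mem_filter, Finset.mem_univ, true_and]
    exact ⟨p.1⁻¹, by simpa [π, mul_assoc] using hp⟩
  have hfib : ∀ x ∈ X,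
      (((Finset.univ : Finset G) ×ˢ c.Sset i).filter (fun p => π p = x)).card = 108 := by
    intro x hx
    simp only [hX, Finset.mem_filter, Finset.mem_univ, true_and] at hx
    obtain ⟨g, hg⟩ := hx
    rw [← c.card_H, Nat.card_eq_fintype_card, ← Finset.card_univ]
    symm
    refine Finset.card_bij (fun (h : H) _ =>
      ((g⁻¹ * (h : G)), (h : G)⁻¹ * (g * x * g⁻¹) * (h : G))) ?_ ?_ ?_
    · intro h _
      simp only [Finset.mem_filter, Finset.mem_product, Sset, Finset.mem_univ, true_and]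
      refine ⟨?_, by simp [π, mul_assoc]⟩
      simpa using FourOnCube.InS.conj c (H.inv_mem h.2) hg
    · intro a _ b _ e
      have := (Prod.ext_iff.mp e).1
      exact Subtype.ext (mul_left_cancel this)
    · rintro ⟨p, s⟩ hp
      simp only [Finset.mem_filter, Finset.mem_product, Sset, Finset.mem_univ, true_and, π] at hp
      obtain ⟨hs, hp⟩ := hp
      have hmem : g * p ∈ H := by
        refine FourOnCube.InS.mem_of_conj c he hs ?_
        have : g * p * s * (g * p)⁻¹ = g * x * g⁻¹ := by rw [← hp]; group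
        rw [this]; exact hg
      refine ⟨⟨g * p, hmem⟩, Finset.mem_univ _, Prod.ext ?_ ?_⟩
      · simp
      · show (g * p)⁻¹ * (g * x * g⁻¹) * (g * p) = s
        rw [← hp]; group
  have h2 : ∑ p ∈ (Finset.univ : Finset G) ×ˢ c.Sset i, F (π p) = 108 * ∑ x ∈ X, F x := by
    rw [← Finset.sum_fiberwise_of_maps_to hmap, Finset.mul_sum]
    refine Finset.sum_congr rfl fun x hx => ?_
    rw [Finset.sum_congr rfl (fun p hp => congrArg F (Finset.mem_filter.mp hp).2),
      Finset.sum_const, hfib x hx, nsmul_eq_mul]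
    norm_num
  have h3 : ∑ p ∈ (Finset.univ : Finset G) ×ˢ c.Sset i, F (π p) =
      (Nat.card G : ℂ) * ∑ s ∈ c.Sset i, F s := by
    rw [Finset.sum_product, Nat.card_eq_fintype_card, ← Finset.card_univ, ← nsmul_eq_mul,
      ← Finset.sum_const]
    exact Finset.sum_congr rfl fun g _ => Finset.sum_congr rfl fun s _ => hF s g
  rw [h1]
  linear_combination 3 * h3 - 3 * h2

theorem inner_indF (he : Embedded c) (i : Fin 3) {F : G → ℂ} (hF : IsClassFunction G F) :
    classInner (c.indF i) F = 3 / 108 * ∑ s ∈ c.Sset i, conj (F s) := by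
  have hc : IsClassFunction G (fun x => conj (F x)) := fun x h => congrArg conj (hF x h)
  have h := c.sum_indF he i hc
  rw [Chars.inner_def, inv_mul_eq_iff_eq_mul₀ (Chars.card_ne_zero G)]
  linear_combination h / 108

theorem indF_on_S (i : Fin 3) {x : G} (hx : c.InS i x) : c.indF i x = 3 := by
  classical
  rw [indF, if_pos ⟨1, by simpa using hx⟩]

theorem indF_sq {i : Fin 3} {x : G} (hx : x ^ 2 = 1) : c.indF i x = 0 := by
  classical
  rw [indF, if_neg]
  rintro ⟨g, hg⟩
  exact FourOnCube.InS.ne_of_sq c hx g hg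

/-- For each coordinate a normal subgroup containing `U i` that meets `3³` only in vectors with
vanishing `i`-th coordinate. -/
theorem exists_normal (he : Embedded c) (i : Fin 3) :
    ∃ N : Subgroup G, N.Normal ∧ c.U i ∈ N ∧ ∀ v, c.E v ∈ N → v i = 0 := by
  classical
  have hcl := c.isClassFunction_indF i
  have hSc := c.card_Sset i
  have h1 : classInner (c.indF i) (fun _ => (1 : ℂ)) = 1 := by
    rw [c.inner_indF he i (fun _ _ => rfl)]
    simp [hSc]; norm_num
  have h3 : classInner (c.indF i) (c.indF i) = 3 := by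
    rw [c.inner_indF he i hcl, Finset.sum_congr rfl (fun s hs =>
      show conj (c.indF i s) = 3 by
        rw [c.indF_on_S i (Finset.mem_filter.mp hs).2]; exact map_ofNat _ 3),
      Finset.sum_const, hSc, nsmul_eq_mul]
    norm_num
  have hint : ∀ χ : IrrCharacter G, ∃ m : ℤ, classInner (c.indF i) χ = m := by
    intro χ
    obtain ⟨k, hk⟩ := c.sum_Sset_char i (Chars.isCharacter_of_irr χ.2)
    refine ⟨k, ?_⟩
    rw [c.inner_indF he i (Chars.isClassFunction_irr χ), ← map_sum, hk]
    simp only [map_mul, map_intCast, map_ofNat]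
    ring
  obtain ⟨X, Y, a, b, ha, hb, hf⟩ := norm_three hcl hint h3 h1
  have hU2 : c.U i ^ 2 = 1 := by rw [pow_two, c.U_sq]
  have e1 := hf 1
  rw [c.indF_sq (one_pow 2)] at e1
  have eU := hf (c.U i)
  rw [c.indF_sq hU2] at eU
  set K := Finset.univ.filter (fun x : G => IsConj (c.U i) x) with hKdef
  have hK : ∀ x, x ∈ K ↔ IsConj (c.U i) x := by simp [hKdef]
  have hprod : ∀ x ∈ K, ∀ y ∈ K, c.indF i (x * y) = 0 := by
    intro x hx y hy
    rw [hK] at hx hy
    rw [indF, if_neg]
    rintro ⟨g, hg⟩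
    have hsq : ∀ z, IsConj (c.U i) z → (g * z * g⁻¹) * (g * z * g⁻¹) = 1 := by
      intro z hz
      obtain ⟨h, rfl⟩ := isConj_iff.mp hz
      calc _ = (g * h) * (c.U i * c.U i) * (g * h)⁻¹ := by group
        _ = 1 := by rw [c.U_sq, mul_one, mul_inv_cancel]
    set x' := g * x * g⁻¹ with hx'
    set y' := g * y * g⁻¹ with hy'
    have hxy : g * (x * y) * g⁻¹ = x' * y' := by rw [hx', hy']; group
    rw [hxy] at hg
    have hxx : x' * x' = 1 := hsq x hx
    have hyy : y' * y' = 1 := hsq y hy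
    clear_value x' y' 
    obtain ⟨w, hw, h4⟩ := hg.pow_four
    have hxi : x'⁻¹ = x' := inv_eq_of_mul_eq_one_right hxx
    have hinv : x' * (x' * y') * x'⁻¹ = (x' * y')⁻¹ := by
      rw [← mul_assoc x' x', hxx, one_mul, mul_inv_rev, inv_eq_of_mul_eq_one_right hyy, hxi]
    have hxH : x' ∈ H := by
      refine c.ti he hw (w := -w) ?_
      rw [c.E_neg, ← h4, ← conj_pow, hinv, inv_pow]
    have hyH : y' ∈ H := by
      have := H.mul_mem (H.inv_mem hxH) (FourOnCube.InS.mem c hg)
      rwa [inv_mul_cancel_left] at this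
    have hcoord : ∀ z', z' ∈ H → z' * z' = 1 → IsConj (c.U i) z' →
        ∃ v, z' = c.E v * c.U i ∧ v i = 0 := by
      intro z' hz hzz hconj
      have hz1 : z' ≠ 1 := fun e => by
        obtain ⟨h, hh⟩ := isConj_iff.mp hconj
        rw [e, mul_inv_eq_one, mul_eq_left] at hh
        exact c.U_ne_one i hh
      obtain ⟨v, k, rfl, hvk, h, -, hh⟩ := c.involution_conj hz hzz hz1
      have hki : k = i := by
        by_contra hki
        exact c.not_isConj_U he (Ne.symm hki) (hconj.trans (isConj_iff.mpr ⟨h, hh⟩))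
      subst hki
      exact ⟨v, rfl, hvk⟩
    obtain ⟨v, hv, hvi⟩ := hcoord x' hxH hxx (hx.trans (isConj_iff.mpr ⟨g, hx'.symm⟩))
    obtain ⟨v', hv', hvi'⟩ := hcoord y' hyH hyy (hy.trans (isConj_iff.mpr ⟨g, hy'.symm⟩))
    rw [hv, hv', c.EU_mul_EU] at hg
    obtain ⟨z, hz, hz' | hz'⟩ := hg
    · apply hz
      rw [← c.E_inj hz']
      simp [flipOff_same, hvi, hvi']
    · exact c.EU_ne_E _ _ _ hz'.symm
  have hcount : (0 : ℂ) = (K.card : ℂ) ^ 2 + a * ((K.card : ℂ) ^ 2 *
      (X : G → ℂ) (c.U i) ^ 2 / (X : G → ℂ) 1) + b * ((K.card : ℂ) ^ 2 *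
      (Y : G → ℂ) (c.U i) ^ 2 / (Y : G → ℂ) 1) := by
    rw [← sum_class_mul (c.U i) X K hK, ← sum_class_mul (c.U i) Y K hK]
    have h0 : ∑ x ∈ K, ∑ y ∈ K, c.indF i (x * y) = 0 :=
      Finset.sum_eq_zero fun x hx => Finset.sum_eq_zero fun y hy => hprod x hx y hy
    rw [← h0]
    simp only [hf, Finset.sum_add_distrib, ← Finset.mul_sum, Finset.sum_const, nsmul_eq_mul,
      mul_one]
    ring
  have hK0 : (K.card : ℂ) ≠ 0 := Nat.cast_ne_zero.mpr
    (Finset.card_pos.mpr ⟨c.U i, (hK _).mpr (IsConj.refl _)⟩).ne'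
  set x := (X : G → ℂ) 1 with hx
  set y := (Y : G → ℂ) 1 with hy
  set p := (X : G → ℂ) (c.U i) with hp
  set q := (Y : G → ℂ) (c.U i) with hq
  have hx0 : x ≠ 0 := Chars.irr_degree_ne_zero X.2
  have hy0 : y ≠ 0 := Chars.irr_degree_ne_zero Y.2
  have hmain : (K.card : ℂ) ^ 2 * (x * y + a * p ^ 2 * y + b * q ^ 2 * x) = 0 := by
    field_simp at hcount
    linear_combination -hcount
  have hm2 : x * y + a * p ^ 2 * y + b * q ^ 2 * x = 0 :=
    (mul_eq_zero.mp hmain).resolve_left (pow_ne_zero 2 hK0)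
  have hby : b * y = -(1 + a * x) := by linear_combination -e1
  have hbq : b * q = -(1 + a * p) := by linear_combination -eU
  have hpx : p = x := by
    have h4 : (b * y) * (a * x) + (b * y) * (a * p) ^ 2 + (b * q) ^ 2 * (a * x) = 0 := by
      linear_combination a * b * hm2 + (b * y * p ^ 2 * 0 + a * b * x * q ^ 2 * 0) * ha
    rw [hby, hbq] at h4
    have h5 : (a * x - a * p) ^ 2 = 0 := by linear_combination -h4
    have h6 : a * (x - p) = 0 := by rw [mul_sub]; exact pow_eq_zero_iff (two_ne_zero) |>.mp h5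
    rcases mul_eq_zero.mp h6 with h | h
    · exact absurd ha (by rw [h]; norm_num)
    · linear_combination -h
  have hqy : q = y := by
    have h4 : b * (q - y) = 0 := by linear_combination hbq - hby + (-a) * hpx
    rcases mul_eq_zero.mp h4 with h | h
    · exact absurd hb (by rw [h]; norm_num)
    · linear_combination h
  obtain ⟨N₁, hN₁, hm₁⟩ := exists_kernel X
  obtain ⟨N₂, hN₂, hm₂⟩ := exists_kernel Y
  refine ⟨N₁ ⊓ N₂, inferInstance,
    ⟨(hm₁ _).mpr (hp ▸ hpx), (hm₂ _).mpr (hq ▸ hqy)⟩, fun v hv => ?_⟩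
  by_contra h0
  have e3 := hf (c.E v)
  rw [c.indF_on_S i ⟨v, h0, Or.inl rfl⟩, (hm₁ _).mp hv.1, (hm₂ _).mp hv.2] at e3
  have : (3 : ℂ) = 0 := by linear_combination e3 - e1
  norm_num at this

omit [Fintype G] in
theorem plane_le {N : Subgroup G} (hN : N.Normal) {i : Fin 3} (hU : c.U i ∈ N) {v : Vec3}
    (hv : v i = 0) : c.E v ∈ N := by
  have h1 : c.E (-v) * c.U i * (c.E (-v))⁻¹ ∈ N := hN.conj_mem _ hU _
  rw [c.E_neg (-v) |>.symm, neg_neg, c.EU_mul_E] at h1
  have h2 := N.mul_mem h1 hU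
  rw [mul_assoc, c.U_sq, mul_one] at h2
  convert h2 using 2
  funext j
  by_cases hij : i = j
  · subst hij; simp [flipOff, hv]
  · rw [Pi.add_apply, Pi.neg_apply, flipOff_other hij, double_neg_self]

/-- The main theorem. -/
theorem eq_top (he : Embedded c) : H = ⊤ := by
  classical
  choose N hN hU hv using c.exists_normal he
  set M := N 0 ⊓ N 1 ⊓ N 2 with hMdef
  haveI := hN
  haveI hMn : M.Normal := inferInstance
  have hMN : ∀ i, M ≤ N i := by
    intro i
    fin_cases i
    · exact inf_le_left.trans inf_le_left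
    · exact inf_le_left.trans inf_le_right
    · exact inf_le_right
  have hME : ∀ v, c.E v ∈ M → v = 0 := fun v h => funext fun j => hv j v (hMN j h)
  have hMH : M ⊓ H = ⊥ := by
    rw [Subgroup.eq_bot_iff_forall]
    rintro x ⟨hxM, hxH⟩
    by_contra hx1
    obtain ⟨v, rfl | ⟨k, rfl⟩⟩ := c.exhaust x hxH
    · exact hx1 (by rw [hME v hxM, c.E_zero])
    · obtain ⟨j, hj⟩ := exists_ne_idx k
      let w : Vec3 := Pi.single j 1
      have h1 : c.E w * (c.E v * c.U k) * (c.E w)⁻¹ ∈ M := hMn.conj_mem _ hxM _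
      rw [c.E_conj_EU] at h1
      have h2 := M.mul_mem h1 (M.inv_mem hxM)
      rw [mul_inv_rev, c.U_inv, mul_assoc, ← mul_assoc (c.U k), c.U_sq, one_mul, ← c.E_neg,
        ← c.E_add] at h2
      have h3 := congrFun (hME _ h2) j
      simp [w, flipOff, Ne.symm hj, Pi.single_eq_same] at h3
      have : ∀ a : ZMod 3, ¬ 1 + a + 1 + -a = 0 := by decide
      exact absurd h3 (this _)
  let T : Subgroup G :=
    { carrier := Set.range c.E
      one_mem' := ⟨0, c.E_zero⟩
      mul_mem' := by rintro x y ⟨v, rfl⟩ ⟨w, rfl⟩; exact ⟨v + w, c.E_add v w⟩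
      inv_mem' := by rintro x ⟨v, rfl⟩; exact ⟨-v, c.E_neg v⟩ }
  haveI : IsMulCommutative T := ⟨⟨by
    rintro ⟨x, v, rfl⟩ ⟨y, w, rfl⟩; exact Subtype.ext (c.E_comm v w)⟩⟩
  have hTcard : Nat.card T = 3 ^ 3 := by
    rw [← Nat.card_congr (Equiv.ofBijective (fun v : Vec3 => (⟨c.E v, v, rfl⟩ : T))
      ⟨fun v w e => c.E_inj (congrArg Subtype.val e),
        by rintro ⟨x, v, rfl⟩; exact ⟨v, rfl⟩⟩)]
    simp [Nat.card_eq_fintype_card, ZMod.card]
  have hTM : T ≤ Subgroup.normalizer (M : Set G) := by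
    rw [Subgroup.normalizer_eq_top (H := M)]; exact le_top
  have hMcop : ¬ 3 ∣ Nat.card M := by
    intro h3
    haveI : Fact (Nat.Prime 3) := ⟨Nat.prime_three⟩
    obtain ⟨z, hz⟩ := exists_prime_orderOf_dvd_card' 3 h3
    letI : MulAction T M :=
      MulAction.ofEndHom
        { toFun := fun t => fun m => ⟨(t : G) * m * (t : G)⁻¹, hMn.conj_mem _ m.2 _⟩
          map_one' := by funext m; simp; rfl
          map_mul' := fun s t => by
            funext m; apply Subtype.ext
            show ((s * t : T) : G) * m * ((s * t : T) : G)⁻¹ =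
              (s : G) * ((t : G) * m * (t : G)⁻¹) * (s : G)⁻¹
            push_cast; group }
    have hfix : Nat.card (MulAction.fixedPoints T M) = 1 := by
      rw [Nat.card_eq_one_iff_unique]
      refine ⟨⟨?_⟩, ⟨⟨1, fun t => Subtype.ext (by
        show (t : G) * 1 * (t : G)⁻¹ = 1; simp)⟩⟩⟩
      suffices h : ∀ m : MulAction.fixedPoints T M, ((m : M) : G) = 1 by
        intro a b; exact Subtype.ext (Subtype.ext ((h a).trans (h b).symm))
      intro m
      have h1 := congrArg Subtype.val (m.2 ⟨c.E (Pi.single 0 1), _, rfl⟩)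
      have h2 : ((m : M) : G) ∈ M ⊓ H := ⟨(m : M).2, he.cent _ _ (single_ne_zero 0)
        (mul_inv_eq_iff_eq_mul.mp h1).symm⟩
      rwa [hMH, Subgroup.mem_bot] at h2
    have h5 := (IsPGroup.of_card hTcard).card_modEq_card_fixedPoints M
    rw [hfix] at h5
    obtain ⟨k, hk⟩ := h3
    rw [hk, Nat.ModEq, Nat.mul_mod_right] at h5
    norm_num at h5
  have hM1 : M = ⊥ := by
    rw [eq_bot_iff]
    refine Coprime.le_of_centralizer_le_of_not_isCyclic (A := T) ?_ hTM ?_ ?_
    · intro hcyc
      obtain ⟨⟨t, v, rfl⟩, ht⟩ := hcyc.exists_ofOrder_eq_natCard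
      rw [hTcard, ← Subgroup.orderOf_coe] at ht
      have h3 := orderOf_dvd_of_pow_eq_one (c.E_pow_three v)
      rw [ht] at h3
      exact absurd (Nat.le_of_dvd (by norm_num) h3) (by norm_num)
    · rw [hTcard]
      exact Nat.Coprime.pow_left _ ((Nat.Prime.coprime_iff_not_dvd Nat.prime_three).mpr hMcop)
    · rintro _ ⟨v, rfl⟩ hv1 x ⟨hxM, hxC⟩
      rw [← hMH]
      refine ⟨hxM, he.cent v x (fun e => hv1 (by rw [e, c.E_zero])) ?_⟩
      exact Subgroup.mem_centralizer_singleton_iff.mp hxC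
  have h01 : N 0 ⊓ N 1 ≤ H := by
    intro x hx
    refine he.cent (Pi.single 0 1) x (single_ne_zero 0) ?_
    have h2 : c.E (Pi.single 0 1) ∈ N 2 :=
      c.plane_le (hN 2) (hU 2) (Pi.single_eq_of_ne (by decide) _)
    have hcm : x * c.E (Pi.single 0 1) * x⁻¹ * (c.E (Pi.single 0 1))⁻¹ ∈ M := by
      refine ⟨?_, (N 2).mul_mem ((hN 2).conj_mem _ h2 _) ((N 2).inv_mem h2)⟩
      haveI : (N 0 ⊓ N 1).Normal := inferInstance
      have h3 := Subgroup.Normal.conj_mem (H := N 0 ⊓ N 1) inferInstance _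
        ((N 0 ⊓ N 1).inv_mem hx) (c.E (Pi.single 0 1))
      have h4 := (N 0 ⊓ N 1).mul_mem hx h3
      simpa [mul_assoc] using h4
    rw [hM1, Subgroup.mem_bot, mul_inv_eq_one, mul_inv_eq_iff_eq_mul] at hcm
    exact hcm
  rw [Subgroup.eq_top_iff']
  intro g
  let e : Vec3 := Pi.single 2 1
  have he01 : c.E e ∈ N 0 ⊓ N 1 :=
    ⟨c.plane_le (hN 0) (hU 0) (Pi.single_eq_of_ne (by decide) _),
      c.plane_le (hN 1) (hU 1) (Pi.single_eq_of_ne (by decide) _)⟩
  have hgm : g * c.E e * g⁻¹ ∈ H := h01 ((inferInstance : (N 0 ⊓ N 1).Normal).conj_mem _ he01 g)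
  obtain ⟨w, hw⟩ := c.eq_E_of_pow_three hgm
    (by rw [conj_pow, c.E_pow_three, mul_one, mul_inv_cancel])
  exact c.ti he (single_ne_zero 2) hw

end FourOnCube

end CfsgLib.ThreeLocalChars
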