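import Cfsg.Agent.Lib.Chars.Integral

/-!
# Character tools for small 3-local configurations

* values at a real element whose sixth power is trivial are integers congruent modulo 3 to the value
  at the cube,
* sums of an irreducible character over products of two elements of a class,
* virtual characters of norm three containing the principal character,
* the kernel of an irreducible character as a normal subgroup.
-/

set_option autoImplicit false
set_option linter.style.haveILetI false

namespace CfsgLib.ThreeLocalChars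

open Module Cfsg
open scoped ComplexConjugate

/-- A fixed primitive cube root of unity. -/
noncomputable def cubeRoot : ℂ := ⟨-1 / 2, Real.sqrt 3 / 2⟩

theorem cubeRoot_sq : cubeRoot * cubeRoot + cubeRoot + 1 = 0 := by
  have h : Real.sqrt 3 * Real.sqrt 3 = 3 := Real.mul_self_sqrt (by norm_num)
  apply Complex.ext
  · simp [cubeRoot]; nlinarith
  · simp [cubeRoot]; ring

theorem cubeRoot_pow_three : cubeRoot ^ 3 = 1 := by
  linear_combination (cubeRoot - 1) * cubeRoot_sq

theorem conj_cubeRoot : conj cubeRoot = -1 - cubeRoot := by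
  apply Complex.ext <;> simp [cubeRoot]; norm_num

theorem cubeRoot_im_ne : cubeRoot.im ≠ 0 := by
  simp [cubeRoot]

/-- The character `a ↦ w ^ a` of `ZMod 3`. -/
noncomputable def zpow3 (a : ZMod 3) : ℂ := cubeRoot ^ a.val

theorem zpow3_zero : zpow3 0 = 1 := by simp [zpow3]

theorem zpow3_add (a b : ZMod 3) : zpow3 (a + b) = zpow3 a * zpow3 b := by
  rw [zpow3, zpow3, zpow3, ← pow_add, ZMod.val_add]
  exact (pow_eq_pow_mod _ cubeRoot_pow_three).symm

theorem zmod3_cases (a : ZMod 3) : a = 0 ∨ a = 1 ∨ a = 2 := by revert a; decide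

theorem conj_zpow3 (a : ZMod 3) : conj (zpow3 a) = zpow3 (-a) := by
  rcases zmod3_cases a with rfl | rfl | rfl
  · simp [zpow3]
  · rw [zpow3, zpow3, map_pow, conj_cubeRoot, show (1 : ZMod 3).val = 1 from rfl,
      show (-1 : ZMod 3).val = 2 from rfl]
    linear_combination -1 * cubeRoot_sq
  · rw [zpow3, zpow3, map_pow, conj_cubeRoot, show (2 : ZMod 3).val = 2 from rfl,
      show (-2 : ZMod 3).val = 1 from rfl]
    linear_combination cubeRoot_sq

theorem indicator_zpow3 (a : ZMod 3) :
    3 * (if a ≠ 0 then (1 : ℂ) else 0) = 2 - zpow3 a - zpow3 (-a) := by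
  rcases zmod3_cases a with rfl | rfl | rfl
  · simp [zpow3]; norm_num
  · rw [if_pos (by decide), zpow3, zpow3, show (1 : ZMod 3).val = 1 from rfl,
      show (-1 : ZMod 3).val = 2 from rfl]
    linear_combination cubeRoot_sq
  · rw [if_pos (by decide), zpow3, zpow3, show (2 : ZMod 3).val = 2 from rfl,
      show (-2 : ZMod 3).val = 1 from rfl]
    linear_combination cubeRoot_sq

theorem sixth_root_decomp {μ : ℂ} (h : μ ^ 6 = 1) :
    ∃ s a b : ℤ, μ ^ 3 = s ∧ μ = a + b * cubeRoot ∧ (3 : ℤ) ∣ a + b - s := by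
  have h2 : (μ ^ 3 - 1) * (μ ^ 3 + 1) = 0 := by linear_combination h
  have key : ∀ ν : ℂ, ν ^ 3 = 1 → ν = 1 ∨ ν = cubeRoot ∨ ν = -1 - cubeRoot := by
    intro ν hν
    have h3 : (ν - 1) * ((ν - cubeRoot) * (ν - (-1 - cubeRoot))) = 0 := by
      linear_combination hν + (1 - ν) * cubeRoot_sq
    rcases mul_eq_zero.mp h3 with h4 | h4
    · exact Or.inl (sub_eq_zero.mp h4)
    rcases mul_eq_zero.mp h4 with h5 | h5
    · exact Or.inr (Or.inl (sub_eq_zero.mp h5))
    · exact Or.inr (Or.inr (sub_eq_zero.mp h5))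
  rcases mul_eq_zero.mp h2 with h3 | h3
  · have h4 : μ ^ 3 = 1 := sub_eq_zero.mp h3
    rcases key μ h4 with e | e | e
    · exact ⟨1, 1, 0, by simpa using h4, by simp [e], by norm_num⟩
    · exact ⟨1, 0, 1, by simpa using h4, by simp [e], by norm_num⟩
    · exact ⟨1, -1, -1, by simpa using h4, by rw [e]; push_cast; ring, by norm_num⟩
  · have h4 : μ ^ 3 = -1 := by linear_combination h3
    have h5 : (-μ) ^ 3 = 1 := by linear_combination -h4
    rcases key (-μ) h5 with e | e | e
    · exact ⟨-1, -1, 0, by simpa using h4, by push_cast; linear_combination -e, by norm_num⟩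
    · exact ⟨-1, 0, -1, by simpa using h4, by push_cast; linear_combination -e, by norm_num⟩
    · exact ⟨-1, 1, 1, by simpa using h4, by push_cast; linear_combination -e, by norm_num⟩

section

universe u
variable {G : Type u} [Group G] [Finite G]

/-- A character at a real element `d` with `d ^ 6 = 1` is an integer congruent modulo 3 to its
value at `d ^ 3`, which is also an integer. -/
theorem real_six_congr {χ : G → ℂ} (hχ : IsCharacter G χ) {d : G} (hd : d ^ 6 = 1)
    (hreal : IsConj d d⁻¹) :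
    ∃ n m : ℤ, χ d = n ∧ χ (d ^ 3) = m ∧ (3 : ℤ) ∣ n - m := by
  classical
  have hcl := Chars.isClassFunction_of_isCharacter hχ
  have hrc : conj (χ d) = χ d := by
    rw [← Chars.char_inv hχ]
    obtain ⟨c, hc⟩ := isConj_iff.mp hreal
    rw [← hc, hcl d c]
  obtain ⟨k, ρ, rfl⟩ := hχ
  obtain ⟨b, μ, hμ, -, hb, -, h1, -⟩ := Chars.exists_eigenbasis_rep ρ d
  have h6 : ∀ i, μ i ^ 6 = 1 := fun i => by
    obtain ⟨c, hc⟩ := orderOf_dvd_of_pow_eq_one hd
    rw [hc, pow_mul, hμ i, one_pow]
  choose s a c hs ha hdiv using fun i => sixth_root_decomp (h6 i)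
  have hb3 : ∀ i, ρ (d ^ 3) (b i) = (μ i ^ 3) • b i := by
    intro i
    simp only [pow_succ, pow_zero, one_mul, map_mul, Module.End.mul_apply, map_smul, hb i,
      smul_smul]
    ring_nf
  have h3 : ρ.character (d ^ 3) = ((∑ i, s i : ℤ) : ℂ) := by
    rw [Representation.character, Chars.trace_eq_sum_of_eigenbasis _ b _ hb3]
    push_cast
    exact Finset.sum_congr rfl fun i _ => hs i
  have hsum : ρ.character d = ((∑ i, a i : ℤ) : ℂ) + ((∑ i, c i : ℤ) : ℂ) * cubeRoot := by
    rw [h1]
    push_cast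
    rw [Finset.sum_mul, ← Finset.sum_add_distrib]
    exact Finset.sum_congr rfl fun i _ => ha i
  have hc0 : (∑ i, c i) = 0 := by
    have him : (ρ.character d).im = 0 := Complex.conj_eq_iff_im.mp hrc
    rw [hsum] at him
    simp only [Complex.add_im, Complex.intCast_im, Complex.mul_im, Complex.intCast_re, zero_add,
      zero_mul, add_zero] at him
    rcases mul_eq_zero.mp him with h | h
    · exact_mod_cast h
    · exact absurd h cubeRoot_im_ne
  refine ⟨∑ i, a i, ∑ i, s i, by rw [hsum, hc0]; simp, h3, ?_⟩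
  have h4 : (∑ i, a i) - ∑ i, s i = ∑ i, (a i + c i - s i) := by
    rw [Finset.sum_sub_distrib, Finset.sum_add_distrib, hc0, add_zero]
  rw [h4]
  exact Finset.dvd_sum fun i _ => hdiv i

/-- Column orthogonality forbids two non-conjugate real classes with `d ^ 6 = 1`, conjugate cubes
and `9 ∤ |C(d)| + |C(d')|`. -/
theorem not_isConj_cubes {d d' : G} (hd : d ^ 6 = 1) (hd' : d' ^ 6 = 1)
    (hr : IsConj d d⁻¹) (hr' : IsConj d' d'⁻¹) (hne : ¬ IsConj d d')
    (h9 : ¬ 9 ∣ Nat.card (Subgroup.centralizer ({d} : Set G)) +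
      Nat.card (Subgroup.centralizer ({d'} : Set G))) :
    ¬ IsConj (d ^ 3) (d' ^ 3) := by
  classical
  intro hcube
  haveI := Chars.irrFintype G
  choose n m hn hm hnm using fun χ : IrrCharacter G =>
    real_six_congr (Chars.isCharacter_of_irr χ.2) hd hr
  choose n' m' hn' hm' hnm' using fun χ : IrrCharacter G =>
    real_six_congr (Chars.isCharacter_of_irr χ.2) hd' hr'
  have hmm : ∀ χ, m χ = m' χ := fun χ => by
    have h1 := (Chars.isConj_iff_forall_irr _ _).mp hcube χ
    rw [hm, hm'] at h1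
    exact_mod_cast h1
  have hdiv : ∀ χ, (3 : ℤ) ∣ n χ - n' χ := fun χ => by
    have h1 := dvd_sub (hnm χ) (hnm' χ)
    rw [hmm χ] at h1
    simpa using h1
  choose k hk using hdiv
  have c1 := Chars.second_orthogonality d d
  have c2 := Chars.second_orthogonality d' d'
  have c3 := Chars.second_orthogonality d d'
  rw [if_pos (IsConj.refl _)] at c1 c2
  rw [if_neg fun h => hne h.symm] at c3
  simp only [hn, hn', map_intCast] at c1 c2 c3
  have d1 : ∑ χ, n χ * n χ = (Nat.card (Subgroup.centralizer ({d} : Set G)) : ℤ) := by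
    exact_mod_cast c1
  have d2 : ∑ χ, n' χ * n' χ = (Nat.card (Subgroup.centralizer ({d'} : Set G)) : ℤ) := by
    exact_mod_cast c2
  have d3 : ∑ χ, n χ * n' χ = 0 := by exact_mod_cast c3
  apply h9
  rw [← Int.natCast_dvd_natCast]
  refine ⟨∑ χ, k χ * k χ, ?_⟩
  push_cast
  rw [← d1, ← d2, Finset.mul_sum, ← Finset.sum_add_distrib]
  have h1 : ∀ χ ∈ (Finset.univ : Finset (IrrCharacter G)),
      n χ * n χ + n' χ * n' χ = 9 * (k χ * k χ) + 2 * (n χ * n' χ) := fun χ _ => by
    linear_combination (n χ - n' χ + 3 * k χ) * hk χ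
  rw [Finset.sum_congr rfl h1, Finset.sum_add_distrib, ← Finset.mul_sum, ← Finset.mul_sum, d3,
    mul_zero, add_zero]

/-- The kernel of an irreducible character. -/
theorem exists_kernel (χ : IrrCharacter G) :
    ∃ N : Subgroup G, N.Normal ∧ ∀ g, g ∈ N ↔ (χ : G → ℂ) g = (χ : G → ℂ) 1 := by
  obtain ⟨χ, n, ρ, hρ, rfl⟩ := χ
  refine ⟨MonoidHom.ker ρ, inferInstance, fun g => ?_⟩
  show ρ g = 1 ↔ ρ.character g = ρ.character 1
  rw [Representation.char_one, Chars.character_eq_finrank_iff, Module.End.one_eq_id]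

/-- The sum of an irreducible character over all products of two conjugates of `u`. -/
theorem sum_class_mul [Fintype G] [DecidableEq G] (u : G) (χ : IrrCharacter G)
    (K : Finset G) (hK : ∀ x, x ∈ K ↔ IsConj u x) :
    ∑ x ∈ K, ∑ y ∈ K, (χ : G → ℂ) (x * y) =
      (K.card : ℂ) ^ 2 * (χ : G → ℂ) u ^ 2 / (χ : G → ℂ) 1 := by
  classical
  obtain ⟨χ, n, ρ, hρ, rfl⟩ := χ
  have hsum : Chars.classSum ρ u = ∑ x ∈ K, ρ x := by
    rw [Chars.classSum, show K = Finset.univ.filter (fun x => IsConj u x) by ext x; simp [hK],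
      Finset.sum_filter]
    exact Finset.sum_congr rfl fun x _ => by congr
  have hcard : (Nat.card {x : G // IsConj u x} : ℂ) = (K.card : ℂ) := by
    rw [Nat.card_congr (Equiv.subtypeEquivRight fun x => (hK x).symm), Nat.card_eq_fintype_card,
      Fintype.card_coe]
  have hsc := Chars.classSum_eq_scalar ρ u
  rw [hsum, hcard] at hsc
  set c : ℂ := (K.card : ℂ) * ρ.character u / (finrank ℂ (Fin n → ℂ) : ℂ) with hc
  have h2 : ∑ x ∈ K, ∑ y ∈ K, ρ (x * y) = (c * c) • (LinearMap.id : (Fin n → ℂ) →ₗ[ℂ] _) := by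
    simp only [map_mul, ← Finset.mul_sum, ← Finset.sum_mul, hsc]
    ext v
    simp [Module.End.mul_apply, smul_smul]
  have h3 := congrArg (LinearMap.trace ℂ (Fin n → ℂ)) h2
  simp only [map_sum, map_smul, LinearMap.trace_id, smul_eq_mul] at h3
  show ∑ x ∈ K, ∑ y ∈ K, ρ.character (x * y) =
    (K.card : ℂ) ^ 2 * ρ.character u ^ 2 / ρ.character 1
  rw [Representation.char_one]
  simp only [Representation.character] at h3 ⊢
  rw [h3, hc]
  have hn : (finrank ℂ (Fin n → ℂ) : ℂ) ≠ 0 :=
    Nat.cast_ne_zero.mpr (Chars.finrank_pos_of_isIrreducible ρ).ne'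
  simp only [Representation.character]
  field_simp

/-- A virtual character of norm three with principal coefficient one. -/
theorem norm_three [Fintype G] {f : G → ℂ} (hf : IsClassFunction G f)
    (hint : ∀ χ : IrrCharacter G, ∃ m : ℤ, classInner f χ = m)
    (h3 : classInner f f = 3) (h1 : classInner f (fun _ => 1) = 1) :
    ∃ (X Y : IrrCharacter G) (a b : ℂ), a * a = 1 ∧ b * b = 1 ∧
      ∀ g, f g = 1 + a * (X : G → ℂ) g + b * (Y : G → ℂ) g := by
  classical
  haveI := Chars.irrFintype G
  choose m hm using hint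
  have hp : m (Chars.principal G) = 1 := by
    have h2 := hm (Chars.principal G)
    rw [show ((Chars.principal G : IrrCharacter G) : G → ℂ) = fun _ => 1 from rfl, h1] at h2
    exact_mod_cast h2.symm
  have hsum : (∑ χ : IrrCharacter G, m χ * m χ) = 3 := by
    have := Chars.inner_eq_sum hf f
    simp only [hm, h3, map_intCast] at this
    exact_mod_cast this.symm
  rw [← Finset.add_sum_erase _ _ (Finset.mem_univ (Chars.principal G)), hp] at hsum
  set R := (Finset.univ.erase (Chars.principal G)).filter (fun χ => m χ ≠ 0) with hR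
  have hR2 : ∑ χ ∈ R, m χ * m χ = 2 := by
    rw [hR, Finset.sum_filter_of_ne (p := fun χ => m χ ≠ 0)
      (fun χ _ h h0 => h (by rw [h0, mul_zero]))]
    linarith
  have hsq : ∀ χ ∈ R, m χ * m χ = 1 := by
    intro χ hχ
    have h4 : m χ * m χ ≤ 2 := by
      rw [← hR2]
      exact Finset.single_le_sum (fun i _ => mul_self_nonneg (m i)) hχ
    have h5 : -1 ≤ m χ := by nlinarith
    have h6 : m χ ≤ 1 := by nlinarith
    have h7 : m χ ≠ 0 := (Finset.mem_filter.mp hχ).2
    rcases (show m χ = 1 ∨ m χ = -1 by omega) with e | e <;> rw [e] <;> norm_num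
  rw [Finset.sum_congr rfl hsq, Finset.sum_const, nsmul_eq_mul, mul_one] at hR2
  obtain ⟨X, Y, hXY, hRe⟩ := Finset.card_eq_two.mp (show R.card = 2 by exact_mod_cast hR2)
  refine ⟨X, Y, m X, m Y, ?_, ?_, fun g => ?_⟩
  · exact_mod_cast hsq X (by simp [hRe])
  · exact_mod_cast hsq Y (by simp [hRe])
  · conv_lhs => rw [Chars.classFun_eq_sum hf, Finset.sum_apply]
    rw [← Finset.add_sum_erase _ _ (Finset.mem_univ (Chars.principal G))]
    simp only [Pi.smul_apply, smul_eq_mul, hm, hp, Int.cast_one, one_mul, Chars.principal_apply]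
    rw [← Finset.sum_filter_of_ne (p := fun χ => m χ ≠ 0)
      (fun χ _ h h0 => h (by rw [h0, Int.cast_zero, zero_mul]))]
    rw [← hR, hRe, Finset.sum_pair hXY, add_assoc]

end

end CfsgLib.ThreeLocalChars
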