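import Cfsg.Agent.Lib.ThreeLocalChars.Tools

/-!
# A four-group acting on `3³` by pairwise inverting coordinates

The data of a group `3³ : 2²` inside an ambient group, with its basic arithmetic.
-/

set_option autoImplicit false
set_option linter.style.haveILetI false

namespace CfsgLib.ThreeLocalChars

/-- Vectors of `(ZMod 3)³`. -/
abbrev Vec3 := Fin 3 → ZMod 3

/-- Keep coordinate `i`, negate the other two. -/
def flipOff (i : Fin 3) (v : Vec3) : Vec3 := fun j => if i = j then v j else -v j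

/-- The third index. -/
def thirdIdx (i j : Fin 3) : Fin 3 := -(i + j)

theorem thirdIdx_ne (i j : Fin 3) : i ≠ j → thirdIdx i j ≠ i ∧ thirdIdx i j ≠ j := by
  revert i j; decide

theorem exists_ne_idx (i : Fin 3) : ∃ j, j ≠ i := by revert i; decide

theorem double_neg_self (a : ZMod 3) : -a + -a = a := by revert a; decide

theorem neg_ne_self_of_ne_zero (a : ZMod 3) : a ≠ 0 → -a ≠ a := by revert a; decide

theorem flipOff_flipOff (i : Fin 3) (v : Vec3) : flipOff i (flipOff i v) = v := by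
  funext j; by_cases h : i = j <;> simp [flipOff, h]

theorem flipOff_zero (i : Fin 3) : flipOff i 0 = 0 := by funext j; simp [flipOff]

theorem flipOff_add (i : Fin 3) (v w : Vec3) : flipOff i (v + w) = flipOff i v + flipOff i w := by
  funext j; by_cases h : i = j <;> simp [flipOff, h, add_comm]

theorem flipOff_same (i : Fin 3) (v : Vec3) : flipOff i v i = v i := by simp [flipOff]

theorem flipOff_other {i j : Fin 3} (h : i ≠ j) (v : Vec3) : flipOff i v j = -v j := by
  simp [flipOff, h]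

universe u

variable {G : Type u} [Group G]

/-- A copy of `3³ : 2²` filling the subgroup `H`. -/
structure FourOnCube (H : Subgroup G) where
  E : Vec3 → G
  U : Fin 3 → G
  E_mem : ∀ v, E v ∈ H
  U_mem : ∀ i, U i ∈ H
  E_add : ∀ v w, E (v + w) = E v * E w
  U_sq : ∀ i, U i * U i = 1
  U_conj : ∀ i v, U i * E v * U i = E (flipOff i v)
  U_mul : ∀ i j, i ≠ j → U i * U j = U (thirdIdx i j)
  exhaust : ∀ x ∈ H, ∃ v, x = E v ∨ ∃ i, x = E v * U i
  E_inj : Function.Injective E
  U_not : ∀ i v, U i ≠ E v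

namespace FourOnCube

variable {H : Subgroup G} (c : FourOnCube H)

/-- The element of order six `e_i u_i`. -/
def d (i : Fin 3) : G := c.E (Pi.single i 1) * c.U i

theorem E_zero : c.E 0 = 1 := by
  have h := c.E_add 0 0
  rw [add_zero] at h
  exact mul_eq_left.mp h.symm

theorem E_neg (v : Vec3) : c.E (-v) = (c.E v)⁻¹ :=
  eq_inv_of_mul_eq_one_left (by rw [← c.E_add, neg_add_cancel, E_zero])

theorem E_ne_one {v : Vec3} (h : v ≠ 0) : c.E v ≠ 1 := fun e =>
  h (c.E_inj (e.trans c.E_zero.symm))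

theorem E_comm (v w : Vec3) : c.E v * c.E w = c.E w * c.E v := by
  rw [← c.E_add, ← c.E_add, add_comm]

theorem U_inv (i : Fin 3) : (c.U i)⁻¹ = c.U i := inv_eq_of_mul_eq_one_right (c.U_sq i)

theorem U_ne_one (i : Fin 3) : c.U i ≠ 1 := fun e => c.U_not i 0 (e.trans c.E_zero.symm)

theorem UE (i : Fin 3) (v : Vec3) : c.U i * c.E v = c.E (flipOff i v) * c.U i := by
  rw [← c.U_conj, mul_assoc _ _ (c.U i), c.U_sq, mul_one]

theorem EU_mul_E (v w : Vec3) (i : Fin 3) :
    c.E v * c.U i * c.E w = c.E (v + flipOff i w) * c.U i := by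
  rw [mul_assoc, c.UE, ← mul_assoc, ← c.E_add]

theorem EU_mul_EU (v w : Vec3) (i : Fin 3) :
    c.E v * c.U i * (c.E w * c.U i) = c.E (v + flipOff i w) := by
  rw [← mul_assoc, c.EU_mul_E, mul_assoc, c.U_sq, mul_one]

theorem EU_ne_E (v w : Vec3) (i : Fin 3) : c.E v * c.U i ≠ c.E w := fun e =>
  c.U_not i (-v + w) (by rw [c.E_add, ← e, c.E_neg, inv_mul_cancel_left])

theorem EU_inj {v w : Vec3} {i j : Fin 3} (e : c.E v * c.U i = c.E w * c.U j) :
    i = j ∧ v = w := by
  have hij : i = j := by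
    by_contra hne
    refine c.U_not (thirdIdx i j) (-v + w) ?_
    have e2 : c.U i = c.E (-v + w) * c.U j := by
      rw [c.E_add, mul_assoc, ← e, c.E_neg, inv_mul_cancel_left]
    rw [← c.U_mul i j hne, e2, mul_assoc, c.U_sq, mul_one]
  subst hij
  exact ⟨rfl, c.E_inj (mul_right_cancel e)⟩

/-- Parametrisation of `H`. -/
def param : Vec3 × Option (Fin 3) → H
  | (v, none) => ⟨c.E v, c.E_mem v⟩
  | (v, some i) => ⟨c.E v * c.U i, mul_mem (c.E_mem v) (c.U_mem i)⟩

theorem param_bijective : Function.Bijective c.param := by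
  constructor
  · rintro ⟨v, _ | i⟩ ⟨w, _ | j⟩ e <;> simp only [param, Subtype.mk.injEq] at e
    · rw [c.E_inj e]
    · exact absurd e.symm (c.EU_ne_E _ _ _)
    · exact absurd e (c.EU_ne_E _ _ _)
    · obtain ⟨rfl, rfl⟩ := c.EU_inj e; rfl
  · rintro ⟨x, hx⟩
    obtain ⟨v, rfl | ⟨i, rfl⟩⟩ := c.exhaust x hx
    · exact ⟨(v, none), rfl⟩
    · exact ⟨(v, some i), rfl⟩

include c in
theorem card_H : Nat.card H = 108 := by
  rw [← Nat.card_congr (Equiv.ofBijective _ c.param_bijective)]
  simp [Nat.card_eq_fintype_card, ZMod.card]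

theorem E_conj_EU (w v : Vec3) (i : Fin 3) :
    c.E w * (c.E v * c.U i) * (c.E w)⁻¹ = c.E (w + v + flipOff i (-w)) * c.U i := by
  rw [← c.E_neg, ← mul_assoc, ← c.E_add, c.EU_mul_E]

/-- An involution of `H` is conjugate in `H` to some `U i`. -/
theorem involution_conj {x : G} (hx : x ∈ H) (h2 : x * x = 1) (h1 : x ≠ 1) :
    ∃ v i, x = c.E v * c.U i ∧ v i = 0 ∧ ∃ h ∈ H, h * x * h⁻¹ = c.U i := by
  obtain ⟨v, rfl | ⟨i, rfl⟩⟩ := c.exhaust x hx
  · exfalso
    rw [← c.E_add] at h2
    have h3 : v + v = 0 := c.E_inj (h2.trans c.E_zero.symm)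
    refine h1 ?_
    have hv : v = 0 := by
      funext j
      have h4 := congrFun h3 j
      have : ∀ a : ZMod 3, a + a = 0 → a = 0 := by decide
      exact this _ h4
    rw [hv, c.E_zero]
  · rw [c.EU_mul_EU] at h2
    have h3 : v + flipOff i v = 0 := c.E_inj (h2.trans c.E_zero.symm)
    have hvi : v i = 0 := by
      have h4 := congrFun h3 i
      rw [Pi.add_apply, flipOff_same] at h4
      have : ∀ a : ZMod 3, a + a = 0 → a = 0 := by decide
      exact this _ h4
    refine ⟨v, i, rfl, hvi, c.E v, c.E_mem v, ?_⟩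
    rw [c.E_conj_EU]
    have hz : v + v + flipOff i (-v) = 0 := by
      funext j
      by_cases hij : i = j
      · subst hij; simp [flipOff, hvi]
      · simp only [Pi.add_apply, flipOff_other hij, Pi.neg_apply, Pi.zero_apply, neg_neg]
        have : ∀ a : ZMod 3, a + a + a = 0 := by decide
        exact this _
    rw [hz, c.E_zero, one_mul]

/-- Conjugation in `H` maps `E v` to some `E w` with the same support. -/
theorem conj_E {h : G} (hh : h ∈ H) (v : Vec3) :
    ∃ w, h * c.E v * h⁻¹ = c.E w ∧ ∀ j, w j = v j ∨ w j = -v j := by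
  obtain ⟨u, rfl | ⟨i, rfl⟩⟩ := c.exhaust h hh
  · refine ⟨v, ?_, fun j => Or.inl rfl⟩
    rw [c.E_comm, mul_inv_cancel_right]
  · refine ⟨flipOff i v, ?_, fun j => ?_⟩
    · rw [mul_inv_rev, c.U_inv, mul_assoc, mul_assoc, ← mul_assoc (c.E v) (c.U i),
        ← mul_assoc (c.U i) (c.E v * c.U i), ← mul_assoc (c.U i), c.U_conj, ← c.E_neg, ← c.E_add,
        ← c.E_add]
      congr 1
      abel
    · by_cases hij : i = j
      · subst hij; exact Or.inl (flipOff_same _ _)
      · exact Or.inr (flipOff_other hij _)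

theorem d_pow_two (i : Fin 3) : c.d i ^ 2 = c.E (-Pi.single i 1) := by
  rw [pow_two, d, c.EU_mul_EU]
  congr 1
  funext j
  by_cases hij : i = j
  · subst hij; simp only [Pi.add_apply, flipOff_same, Pi.single_eq_same, Pi.neg_apply]; decide
  · simp [flipOff, hij, Pi.single_eq_of_ne' hij]

theorem d_pow_three (i : Fin 3) : c.d i ^ 3 = c.U i := by
  rw [pow_succ, c.d_pow_two, d, ← mul_assoc, ← c.E_add, neg_add_cancel, c.E_zero, one_mul]

theorem d_pow_four (i : Fin 3) : c.d i ^ 4 = c.E (Pi.single i 1) := by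
  rw [show 4 = 2 + 2 from rfl, pow_add, c.d_pow_two, ← c.E_add]
  congr 1
  funext j
  simp only [Pi.add_apply, Pi.neg_apply, double_neg_self]

theorem d_pow_six (i : Fin 3) : c.d i ^ 6 = 1 := by
  rw [show 6 = 3 + 3 from rfl, pow_add, c.d_pow_three, c.U_sq]

theorem d_mem (i : Fin 3) : c.d i ∈ H := mul_mem (c.E_mem _) (c.U_mem i)

theorem d_real {i j : Fin 3} (h : j ≠ i) : IsConj (c.d i) (c.d i)⁻¹ := by
  refine isConj_iff.mpr ⟨c.U j, ?_⟩
  have hc : c.U j * c.U i * c.U j = c.U i := by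
    have h1 := thirdIdx_ne j i h
    rw [c.U_mul j i h, c.U_mul _ j h1.1]
    congr 1
    revert i j
    decide
  have h5 : c.U j * c.d i * c.U j = c.E (-Pi.single i 1) * c.U i := by
    rw [d, ← mul_assoc, c.UE, mul_assoc, mul_assoc, ← mul_assoc (c.U j) (c.U i), hc]
    congr 2
    funext k
    by_cases hjk : j = k
    · subst hjk; simp [flipOff, Pi.single_eq_of_ne h]
    · simp [flipOff, hjk]
  rw [c.U_inv, h5]
  refine (inv_eq_of_mul_eq_one_right ?_).symm
  rw [d, c.EU_mul_EU]
  convert c.E_zero using 2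
  funext k
  by_cases hik : i = k
  · subst hik; simp [flipOff]
  · simp [flipOff, hik, Pi.single_eq_of_ne' hik]

end FourOnCube

end CfsgLib.ThreeLocalChars
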